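import Cfsg.Agent.H29.CubeEssential.Main
import Cfsg.Agent.Fusion.EssentialSquare

/-!
Automorphism groups without normal `p`-subgroups of two-generated abelian `p`-groups.
-/

set_option autoImplicit false

namespace CfsgLib.RankTwo

universe u

variable {p : ℕ} [hp : Fact p.Prime] {H : Type u} [CommGroup H]

/-- The `p ^ n`-th powers. -/
def P (p : ℕ) (H : Type u) [CommGroup H] (n : ℕ) : Subgroup H := (powMonoidHom (p ^ n) : H →* H).range

theorem mem_P {n : ℕ} {x : H} : x ∈ P p H n ↔ ∃ z, z ^ p ^ n = x := Iff.rfl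

theorem apply_mem_P (γ : H →* H) {n : ℕ} {x : H} (hx : x ∈ P p H n) : γ x ∈ P p H n := by
  obtain ⟨z, rfl⟩ := mem_P.1 hx
  exact mem_P.2 ⟨γ z, (map_pow γ z _).symm⟩

theorem P_anti {m n : ℕ} (h : m ≤ n) : P p H n ≤ P p H m := fun x hx => by
  obtain ⟨z, rfl⟩ := mem_P.1 hx
  obtain ⟨j, rfl⟩ := Nat.exists_eq_add_of_le h
  exact mem_P.2 ⟨z ^ p ^ j, by rw [← pow_mul, pow_add, mul_comm]⟩

/-- The displacement of an automorphism. -/
def dis (γ : MulAut H) : H →* H where
  toFun x := γ x / x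
  map_one' := by simp
  map_mul' x y := by rw [map_mul, mul_div_mul_comm]

theorem dis_apply (γ : MulAut H) (x : H) : dis γ x = γ x / x := rfl

theorem apply_eq (γ : MulAut H) (x : H) : γ x = x * dis γ x := by rw [dis_apply, mul_div_cancel]

theorem iterate_two (γ : MulAut H) {M : Subgroup H} (hM : ∀ m ∈ M, γ m ∈ M) {x : H}
    (h2 : dis γ (dis γ x) ∈ M) : ∀ n : ℕ, ∃ m ∈ M, (γ ^ n) x = x * dis γ x ^ n * m
  | 0 => ⟨1, one_mem _, by simp⟩
  | n + 1 => by
    obtain ⟨m, hm, he⟩ := iterate_two γ hM h2 n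
    refine ⟨dis γ (dis γ x) ^ n * γ m, mul_mem (pow_mem h2 n) (hM m hm), ?_⟩
    rw [pow_succ', MulAut.mul_apply, he, map_mul, map_mul, map_pow, apply_eq γ x, apply_eq γ (dis γ x), mul_pow,
      pow_succ]
    ac_rfl

theorem iterate_four (γ : MulAut H) {M : Subgroup H} (hM : ∀ m ∈ M, γ m ∈ M) {x : H}
    (h4 : dis γ (dis γ (dis γ (dis γ x))) ∈ M) : ∀ n : ℕ, ∃ m ∈ M, (γ ^ n) x =
      x * dis γ x ^ n * dis γ (dis γ x) ^ n.choose 2 * dis γ (dis γ (dis γ x)) ^ n.choose 3 * m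
  | 0 => ⟨1, one_mem _, by simp⟩
  | n + 1 => by
    obtain ⟨m, hm, he⟩ := iterate_four γ hM h4 n
    refine ⟨dis γ (dis γ (dis γ (dis γ x))) ^ n.choose 3 * γ m, mul_mem (pow_mem h4 _) (hM m hm), ?_⟩
    rw [pow_succ' γ n, MulAut.mul_apply, he]
    generalize ha : dis γ x = a
    generalize hb : dis γ a = b
    generalize hc : dis γ b = c
    generalize hd : dis γ c = d
    simp only [map_mul, map_pow]
    rw [apply_eq γ x, ha, apply_eq γ a, hb, apply_eq γ b, hc, apply_eq γ c, hd, mul_pow, mul_pow, mul_pow,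
      Nat.choose_succ_succ' n 2, Nat.choose_succ_succ' n 1, Nat.choose_one_right, pow_succ, pow_add, pow_add]
    ac_rfl

variable [Finite H]

/-- An automorphism trivial modulo `p`-th powers has `p`-power order. -/
theorem pow_eq_one_of_dis (hH : IsPGroup p H) (γ : MulAut H) (h : ∀ x, dis γ x ∈ P p H 1) :
    ∃ n, γ ^ p ^ n = 1 := by
  have key : ∀ i, ∀ x, dis (γ ^ p ^ i) x ∈ P p H (i + 1) := by
    intro i
    induction i with
    | zero => intro x; rw [pow_zero, pow_one]; exact h x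
    | succ i ih =>
      intro x
      set δ := γ ^ p ^ i with hδ
      have h2 : dis δ (dis δ x) ∈ P p H (i + 2) := by
        obtain ⟨z, hz⟩ := mem_P.1 (ih x)
        obtain ⟨w, hw⟩ := mem_P.1 (ih z)
        refine P_anti (show i + 2 ≤ (i + 1) + (i + 1) by omega) (mem_P.2 ⟨w, ?_⟩)
        rw [← hz, map_pow, ← hw, ← pow_mul, ← pow_add]
      obtain ⟨m, hm, he⟩ := iterate_two δ (fun m hm => apply_mem_P δ.toMonoidHom hm) h2 p
      rw [dis_apply, pow_succ, pow_mul, ← hδ, he, show x * dis δ x ^ p * m / x = dis δ x ^ p * m by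
        rw [mul_assoc, mul_div_cancel_left]]
      refine mul_mem ?_ hm
      obtain ⟨z, hz⟩ := mem_P.1 (ih x)
      exact mem_P.2 ⟨z, by rw [← hz, ← pow_mul, ← pow_succ]⟩
  obtain ⟨N, hN⟩ := IsPGroup.iff_card.1 hH
  refine ⟨N, MulEquiv.ext fun x => ?_⟩
  obtain ⟨z, hz⟩ := mem_P.1 (P_anti (Nat.le_succ N) (key N x))
  rw [show z ^ p ^ N = 1 by rw [← hN]; exact pow_card_eq_one', dis_apply] at hz
  exact div_eq_one.1 hz.symm

/-- The automorphisms in `A` trivial modulo `p`-th powers are trivial. -/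
theorem eq_one_of_dis (hH : IsPGroup p H) (A : Subgroup (MulAut H))
    (hA : ∀ N : Subgroup A, N.Normal → IsPGroup p N → N = ⊥) {γ : A}
    (h : ∀ x, dis (γ : MulAut H) x ∈ P p H 1) : γ = 1 := by
  let N : Subgroup A :=
    { carrier := {γ | ∀ x, dis (γ : MulAut H) x ∈ P p H 1}
      one_mem' := fun x => by simp [dis_apply]
      mul_mem' := fun {a b} ha hb x => by
        have e : dis ((a * b : A) : MulAut H) x =
            dis (a : MulAut H) ((b : MulAut H) x) * dis (b : MulAut H) x := by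
          simp [dis_apply]
        rw [e]; exact mul_mem (ha _) (hb _)
      inv_mem' := fun {a} ha x => by
        have h1 := inv_mem (ha (((a : MulAut H)⁻¹) x))
        rw [dis_apply, MulAut.apply_inv_self, inv_div] at h1
        exact h1 }
  have hn : N.Normal := ⟨fun a ha g x => by
    have e : dis ((g * a * g⁻¹ : A) : MulAut H) x = (g : MulAut H) (dis (a : MulAut H) ((g : MulAut H)⁻¹ x)) := by
      simp [dis_apply]
    rw [e]; exact apply_mem_P (g : MulAut H).toMonoidHom (ha _)⟩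
  have hbot := hA N hn fun a => by
    obtain ⟨n, hn⟩ := pow_eq_one_of_dis hH ((a : A) : MulAut H) a.2
    exact ⟨n, Subtype.ext (Subtype.ext hn)⟩
  exact Subgroup.mem_bot.1 (hbot ▸ (show γ ∈ N from h))

/-- An invariant chain above the `p`-th powers with factors of order at most `p` is impossible. -/
theorem false_of_chain (hH : IsPGroup p H) (A : Subgroup (MulAut H))
    (hA : ∀ N : Subgroup A, N.Normal → IsPGroup p N → N = ⊥) {γ : A} (hγ : orderOf γ = p)
    (L : Subgroup H) (hKL : P p H 1 ≤ L) (hL : ∀ a : A, ∀ x ∈ L, (a : MulAut H) x ∈ L)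
    (h1 : Nat.card L = Nat.card (P p H 1) ∨ Nat.card L = p * Nat.card (P p H 1))
    (h2 : Nat.card H = Nat.card L ∨ Nat.card H = p * Nat.card L) : False := by
  let D : Subgroup A :=
    { carrier := {a | (∀ x, dis (a : MulAut H) x ∈ L) ∧ ∀ x ∈ L, dis (a : MulAut H) x ∈ P p H 1}
      one_mem' := ⟨fun x => by simp [dis_apply], fun x _ => by simp [dis_apply]⟩
      mul_mem' := fun {a b} ha hb => by
        have e : ∀ x, dis ((a * b : A) : MulAut H) x =
            dis (a : MulAut H) ((b : MulAut H) x) * dis (b : MulAut H) x := fun x => by simp [dis_apply]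
        exact ⟨fun x => e x ▸ mul_mem (ha.1 _) (hb.1 _), fun x hx => e x ▸ mul_mem (ha.2 _ (hL b x hx)) (hb.2 _ hx)⟩
      inv_mem' := fun {a} ha => by
        refine ⟨fun x => ?_, fun x hx => ?_⟩
        · have h1 := inv_mem (ha.1 (((a : MulAut H)⁻¹) x))
          rw [dis_apply, MulAut.apply_inv_self, inv_div] at h1
          exact h1
        · have h1 := inv_mem (ha.2 (((a : MulAut H)⁻¹) x) (hL a⁻¹ x hx))
          rw [dis_apply, MulAut.apply_inv_self, inv_div] at h1
          exact h1 }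
  have hn : D.Normal := ⟨fun a ha g => by
    have e : ∀ x, dis ((g * a * g⁻¹ : A) : MulAut H) x =
        (g : MulAut H) (dis (a : MulAut H) ((g : MulAut H)⁻¹ x)) := fun x => by simp [dis_apply]
    exact ⟨fun x => e x ▸ hL g _ (ha.1 _), fun x hx => e x ▸ apply_mem_P (g : MulAut H).toMonoidHom
      (ha.2 _ (hL g⁻¹ x hx))⟩⟩
  have hbot := hA D hn fun a => by
    refine ⟨1, Subtype.ext ?_⟩
    rw [pow_one]
    refine eq_one_of_dis hH A hA fun x => ?_
    obtain ⟨m, hm, he⟩ := iterate_two ((a : A) : MulAut H) (M := P p H 1)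
      (fun m hm => apply_mem_P ((a : A) : MulAut H).toMonoidHom hm)
      (a.2.2 _ (a.2.1 x)) p
    show dis (((a : A) : MulAut H) ^ p) x ∈ _
    rw [dis_apply, he, mul_assoc, mul_div_cancel_left]
    exact mul_mem (mem_P.2 ⟨dis _ x, by rw [pow_one]⟩) hm
  have hmem : γ ∈ D := by
    have hk : (γ : MulAut H) ^ p ^ 1 = 1 := by
      rw [pow_one]; exact congrArg Subtype.val (hγ ▸ pow_orderOf_eq_one γ)
    refine ⟨fun x => ?_, fun x hx => ?_⟩
    · rcases h2 with h | h
      · rw [(Subgroup.card_eq_iff_eq_top L).1 h.symm]; trivial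
      · have h3 := H29.CubeEssential.stab_factor (p := p) L ⊤ le_top (by rw [Subgroup.card_top, h]) _ hk
          (fun i y hy => by simpa using hL (γ ^ i) y hy) (fun _ _ _ => trivial) (Subgroup.mem_top x)
        rw [dis_apply, div_eq_inv_mul]; exact h3
    · rcases h1 with h | h
      · rw [← Subgroup.eq_of_le_of_card_ge hKL h.le] at hx
        exact div_mem (apply_mem_P (γ : MulAut H).toMonoidHom hx) hx
      · have h3 := H29.CubeEssential.stab_factor (p := p) (P p H 1) L hKL h _ hk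
          (fun i y hy => apply_mem_P ((γ : MulAut H) ^ i).toMonoidHom hy) (fun i y hy => by simpa using hL (γ ^ i) y hy) hx
        rw [dis_apply, div_eq_inv_mul]; exact h3
  rw [hbot, Subgroup.mem_bot] at hmem
  rw [hmem, orderOf_one] at hγ
  exact hp.out.one_lt.ne hγ

/-- The structure of the group. -/
theorem structure_theorem (hH : IsPGroup p H) (hrk : (P p H 1).index ≤ p ^ 2) (A : Subgroup (MulAut H))
    (hA : ∀ N : Subgroup A, N.Normal → IsPGroup p N → N = ⊥) (hdvd : p ∣ Nat.card A) :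
    ((∀ x : H, x ^ p = 1) ∧ Nat.card H = p ^ 2) ∨
      (p ≤ 3 ∧ ∃ k : ℕ, Nonempty (H ≃* Multiplicative (ZMod (p ^ k) × ZMod (p ^ k)))) := by
  classical
  have hpp := hp.out
  haveI : Finite (MulAut H) := Finite.of_injective (fun α : MulAut H => (α : H → H)) DFunLike.coe_injective
  obtain ⟨γ, hγ⟩ := exists_prime_orderOf_dvd_card' p hdvd
  set K := P p H 1 with hKdef
  have hmul : Nat.card K * K.index = Nat.card H := K.card_mul_index
  obtain ⟨N, hN⟩ := IsPGroup.iff_card.1 hH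
  have hpow : ∀ x : H, x ^ p ∈ K := fun x => mem_P.2 ⟨x, by rw [pow_one]⟩
  have htopI : ∀ a : A, ∀ x ∈ (⊤ : Subgroup H), (a : MulAut H) x ∈ (⊤ : Subgroup H) := fun _ _ _ => trivial
  have hidx : K.index = p ^ 2 := by
    obtain ⟨j, -, hj⟩ := (Nat.dvd_prime_pow hpp).1 (hN ▸ K.index_dvd_card)
    rw [hj] at hrk hmul ⊢
    have hj2 : j ≤ 2 := (Nat.pow_le_pow_iff_right hpp.one_lt).1 hrk
    interval_cases j
    · exact (false_of_chain hH A hA hγ ⊤ le_top htopI (Or.inl (by rw [Subgroup.card_top, ← hmul]; simp [hKdef]))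
        (Or.inl (by rw [Subgroup.card_top]))).elim
    · exact (false_of_chain hH A hA hγ ⊤ le_top htopI (Or.inr (by rw [Subgroup.card_top, ← hmul, hKdef]; ring))
        (Or.inl (by rw [Subgroup.card_top]))).elim
    · rfl
  -- invariant subgroups above `K` are trivial
  have hirr : ∀ L : Subgroup H, K ≤ L → (∀ a : A, ∀ x ∈ L, (a : MulAut H) x ∈ L) → L = K ∨ L = ⊤ := by
    intro L hKL hL
    have hdv : L.index ∣ p ^ 2 := hidx ▸ Subgroup.index_dvd_of_le hKL
    obtain ⟨j, hj2, hj⟩ := (Nat.dvd_prime_pow hpp).1 hdv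
    have hLm := L.card_mul_index
    rw [hj] at hLm
    rw [hidx] at hmul
    interval_cases j
    · exact Or.inr (Subgroup.index_eq_one.1 (hj.trans (pow_zero p)))
    · exfalso
      refine false_of_chain hH A hA hγ L hKL hL (Or.inr ?_) (Or.inr (by rw [← hLm]; ring))
      refine Nat.eq_of_mul_eq_mul_right hpp.pos ?_
      rw [pow_one] at hLm
      rw [hLm, ← hmul, hKdef]; ring
    · exact Or.inl (Subgroup.eq_of_le_of_card_ge hKL (le_of_eq (Nat.eq_of_mul_eq_mul_right
        (pow_pos hpp.pos 2) (hLm.trans hmul.symm)))).symm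
  have hKtop : K ≠ ⊤ := fun e => by
    rw [e, Subgroup.index_top] at hidx
    exact (Nat.one_lt_pow two_ne_zero hpp.one_lt).ne hidx
  -- the exponent
  obtain ⟨k, -, hk⟩ := (Nat.dvd_prime_pow hpp).1 (hN ▸ Group.exponent_dvd_nat_card (G := H))
  have hexp : ∀ x : H, x ^ p ^ k = 1 := fun x => hk ▸ Monoid.pow_exponent_eq_one x
  have hk0 : k ≠ 0 := by
    rintro rfl
    exact hKtop (eq_top_iff.2 fun x _ => by
      have := hexp x
      rw [pow_zero, pow_one] at this
      rw [this]; exact one_mem _)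
  obtain ⟨k, rfl⟩ := Nat.exists_eq_succ_of_ne_zero hk0
  have hkey : ∀ x : H, x ^ p ^ k = 1 → x ∈ K := by
    set L := (powMonoidHom (p ^ k) : H →* H).ker
    have hKL : K ≤ L := fun x hx => by
      obtain ⟨z, rfl⟩ := mem_P.1 hx
      show (z ^ p ^ 1) ^ p ^ k = 1
      rw [← pow_mul, pow_one, ← pow_succ']
      exact hexp z
    rcases hirr L hKL (fun a x hx => by
      show ((a : MulAut H) x) ^ p ^ k = 1
      rw [← map_pow, show x ^ p ^ k = 1 from hx, map_one]) with h | h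
    · exact fun x hx => h ▸ (show x ∈ L from hx)
    · exfalso
      have hd : Monoid.exponent H ∣ p ^ k :=
        Monoid.exponent_dvd_of_forall_pow_eq_one fun x => (h ▸ Subgroup.mem_top x : x ∈ L)
      rw [hk, Nat.pow_dvd_pow_iff_le_right hpp.one_lt] at hd
      omega
  -- a basis
  obtain ⟨a, ha⟩ : ∃ a, a ∉ K := by
    by_contra h
    push Not at h
    exact hKtop (eq_top_iff.2 fun x _ => h x)
  set L := K ⊔ Subgroup.zpowers a with hLdef
  have hLmem : ∀ x ∈ L, ∃ n : ℤ, x / a ^ n ∈ K := fun x hx => by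
    obtain ⟨y, hy, z, hz, rfl⟩ := Subgroup.mem_sup.1 hx
    obtain ⟨n, rfl⟩ := Subgroup.mem_zpowers_iff.1 hz
    exact ⟨n, by simpa using hy⟩
  obtain ⟨b, hb⟩ : ∃ b, b ∉ L := by
    by_contra h
    push Not at h
    have htop : L = ⊤ := eq_top_iff.2 fun x _ => h x
    haveI : IsCyclic (H ⧸ K) := by
      refine ⟨⟨QuotientGroup.mk a, fun q => ?_⟩⟩
      induction q using QuotientGroup.induction_on with
      | H x =>
        obtain ⟨n, hn⟩ := hLmem x (htop ▸ Subgroup.mem_top x)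
        refine Subgroup.mem_zpowers_iff.2 ⟨n, (QuotientGroup.eq.2 ?_)⟩
        rwa [← div_eq_inv_mul]
    have h1 : Nat.card (H ⧸ K) ∣ p := by
      rw [← IsCyclic.exponent_eq_card]
      refine Monoid.exponent_dvd_of_forall_pow_eq_one fun q => ?_
      induction q using QuotientGroup.induction_on with
      | H x => exact (QuotientGroup.eq_one_iff _).2 (hpow x)
    rw [← Subgroup.index_eq_card, hidx] at h1
    nlinarith [Nat.le_of_dvd hpp.pos h1, hpp.two_le]
  have hindep : ∀ i j : ℕ, a ^ i * b ^ j ∈ K → p ∣ i ∧ p ∣ j := by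
    intro i j h
    have hdiv : ∀ (c : H) (M : Subgroup H) (n : ℕ), K ≤ M → c ^ n ∈ M → c ∉ M → p ∣ n := fun c M n hM hc hcM => by
      by_contra hn
      refine hcM ?_
      obtain ⟨u, v, huv⟩ := (Int.isCoprime_iff_nat_coprime (a := (p : ℤ)) (b := (n : ℤ))).2
        (by simpa using hpp.coprime_iff_not_dvd.2 hn)
      have e : c = (c ^ p) ^ u * (c ^ n) ^ v := by
        rw [← zpow_natCast c p, ← zpow_natCast c n, ← zpow_mul, ← zpow_mul, ← zpow_add, mul_comm (p : ℤ), mul_comm (n : ℤ),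
          huv, zpow_one]
      rw [e]
      exact mul_mem (zpow_mem (hM (hpow c)) u) (zpow_mem hc v)
    have hj : p ∣ j := hdiv b L j le_sup_left (by
      rw [show b ^ j = (a ^ i)⁻¹ * (a ^ i * b ^ j) by group]
      exact mul_mem (inv_mem (pow_mem (Subgroup.mem_sup_right (Subgroup.mem_zpowers a)) i)) (Subgroup.mem_sup_left h)) hb
    refine ⟨hdiv a K i le_rfl ?_ ha, hj⟩
    obtain ⟨r, rfl⟩ := hj
    rw [pow_mul] at h
    exact (Subgroup.mul_mem_cancel_right _ (pow_mem (hpow b) r)).1 h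
  haveI : NeZero (p ^ (k + 1)) := ⟨(pow_pos hpp.pos _).ne'⟩
  let φ : Multiplicative (ZMod (p ^ (k + 1)) × ZMod (p ^ (k + 1))) →* H :=
    MonoidHom.mk' (fun v => a ^ v.toAdd.1.val * b ^ v.toAdd.2.val) fun v w => by
      have e : ∀ (c : H) (s t : ZMod (p ^ (k + 1))), c ^ (s + t).val = c ^ s.val * c ^ t.val := fun c s t => by
        rw [ZMod.val_add, ← pow_add, ← pow_eq_pow_mod _ (hexp c)]
      rw [toAdd_mul, Prod.fst_add, Prod.snd_add, e, e]
      ac_rfl
  have hinj : Function.Injective φ := by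
    rw [injective_iff_map_eq_one]
    intro v hv
    have key : ∀ r, r ≤ k + 1 → p ^ r ∣ v.toAdd.1.val ∧ p ^ r ∣ v.toAdd.2.val := by
      intro r
      induction r with
      | zero => intro _; simp
      | succ r ih =>
        intro hr
        obtain ⟨⟨i, hi⟩, ⟨j, hj⟩⟩ := ih (by omega)
        have h1 : (a ^ i * b ^ j) ^ p ^ r = 1 := by
          rw [mul_pow, ← pow_mul, ← pow_mul, mul_comm i, mul_comm j, ← hi, ← hj]; exact hv
        obtain ⟨e, he⟩ := Nat.exists_eq_add_of_le (show r ≤ k by omega)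
        obtain ⟨⟨i', hi'⟩, ⟨j', hj'⟩⟩ := hindep i j (hkey _ (by rw [he, pow_add, pow_mul, h1, one_pow]))
        exact ⟨⟨i', by rw [hi, hi', pow_succ, mul_assoc]⟩, ⟨j', by rw [hj, hj', pow_succ, mul_assoc]⟩⟩
    obtain ⟨h1, h2⟩ := key (k + 1) le_rfl
    refine Multiplicative.toAdd.injective (Prod.ext ?_ ?_)
    · exact (ZMod.val_eq_zero _).1 (Nat.eq_zero_of_dvd_of_lt h1 (ZMod.val_lt _))
    · exact (ZMod.val_eq_zero _).1 (Nat.eq_zero_of_dvd_of_lt h2 (ZMod.val_lt _))
  have hsurj : Function.Surjective φ := by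
    have hval : ∀ (c : H) (n : ℕ), c ^ ((n : ZMod (p ^ (k + 1)))).val = c ^ n := fun c n => by
      rw [ZMod.val_natCast, ← pow_eq_pow_mod _ (hexp c)]
    have haR : a ∈ φ.range := ⟨Multiplicative.ofAdd (((1 : ℕ) : ZMod (p ^ (k + 1))), ((0 : ℕ) : ZMod (p ^ (k + 1)))), by
      show a ^ _ * b ^ _ = a
      simp only [toAdd_ofAdd, hval, pow_one, pow_zero, mul_one]⟩
    have hbR : b ∈ φ.range := ⟨Multiplicative.ofAdd (((0 : ℕ) : ZMod (p ^ (k + 1))), ((1 : ℕ) : ZMod (p ^ (k + 1)))), by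
      show a ^ _ * b ^ _ = b
      simp only [toAdd_ofAdd, hval, pow_one, pow_zero, one_mul]⟩
    have htop : φ.range ⊔ K = ⊤ := by
      have hle : L ≤ φ.range ⊔ K := sup_le le_sup_right (Subgroup.zpowers_le.2 (Subgroup.mem_sup_left haR))
      have hLt : L < φ.range ⊔ K := lt_of_le_of_ne hle fun e => hb (e ▸ Subgroup.mem_sup_left hbR)
      have hKL : K < L := lt_of_le_of_ne le_sup_left fun e => ha (e ▸ Subgroup.mem_sup_right (Subgroup.mem_zpowers a))
      by_contra hne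
      obtain ⟨i, hi2, hi⟩ := (Nat.dvd_prime_pow hpp).1 (hidx ▸ Subgroup.index_dvd_of_le hKL.le)
      obtain ⟨j, -, hj⟩ := (Nat.dvd_prime_pow hpp).1 (hi ▸ Subgroup.index_dvd_of_le hle)
      have s1 := Subgroup.index_strictAnti hKL
      have s2 := Subgroup.index_strictAnti hLt
      rw [hidx, hi, Nat.pow_lt_pow_iff_right hpp.one_lt] at s1
      rw [hi, hj, Nat.pow_lt_pow_iff_right hpp.one_lt] at s2
      refine hne (Subgroup.index_eq_one.1 ?_)
      rw [hj, show j = 0 by omega, pow_zero]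
    have key : ∀ n, ∀ x : H, ∃ r ∈ φ.range, ∃ z : H, x = r * z ^ p ^ n := by
      intro n
      induction n with
      | zero => exact fun x => ⟨1, one_mem _, x, by simp⟩
      | succ n ih =>
        intro x
        obtain ⟨r, hr, z, rfl⟩ := ih x
        obtain ⟨r', hr', y, hy, hz⟩ := Subgroup.mem_sup.1 (htop ▸ Subgroup.mem_top z : z ∈ φ.range ⊔ K)
        obtain ⟨w, rfl⟩ := mem_P.1 hy
        exact ⟨r * r' ^ p ^ n, mul_mem hr (pow_mem hr' _), w, by
          rw [← hz, mul_pow, ← pow_mul, ← pow_add, add_comm 1 n, mul_assoc]⟩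
    intro x
    obtain ⟨r, hr, z, rfl⟩ := key (k + 1) x
    rw [hexp, mul_one]; exact hr
  have e : H ≃* Multiplicative (ZMod (p ^ (k + 1)) × ZMod (p ^ (k + 1))) :=
    (MulEquiv.ofBijective φ ⟨hinj, hsurj⟩).symm
  rcases Nat.eq_zero_or_pos k with rfl | hk1
  · refine Or.inl ⟨fun x => by simpa using hexp x, ?_⟩
    rw [Nat.card_congr e.toEquiv, Nat.card_congr Multiplicative.toAdd, Nat.card_prod, Nat.card_zmod]
    simp [pow_two]
  refine Or.inr ⟨?_, k + 1, ⟨e⟩⟩
  by_contra hp3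
  push Not at hp3
  -- an element of order `p` is trivial modulo `p`-th powers
  set γ' : MulAut H := (γ : MulAut H) with hγ'
  have hKinv : ∀ α : MulAut H, K.map α.toMonoidHom = K := fun α => by
    refine le_antisymm ?_ fun x hx => ⟨α⁻¹ x, apply_mem_P (α⁻¹ : MulAut H).toMonoidHom hx, MulAut.apply_inv_self _ _ _⟩
    rintro _ ⟨x, hx, rfl⟩
    exact apply_mem_P α.toMonoidHom hx
  let ρ : A →* MulAut (H ⧸ K) :=
    MonoidHom.mk' (fun α => QuotientGroup.congr K K (α : MulAut H) (hKinv _)) fun α β => by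
      ext q
      induction q using QuotientGroup.induction_on with
      | H x => rfl
  have hcq : Nat.card (H ⧸ K) = p ^ 2 := hidx
  have hqexp : ∀ q : H ⧸ K, q ^ p = 1 := fun q => by
    induction q using QuotientGroup.induction_on with
    | H x => exact (QuotientGroup.eq_one_iff _).2 (hpow x)
  obtain ⟨u, -, hfix, hline, -⟩ := CfsgLib.Fusion.pGroup_aut_square hcq hqexp _
    ((IsPGroup.of_card (p := p) (n := 1) (G := Subgroup.zpowers γ) (by rw [Nat.card_zpowers, hγ, pow_one])).map ρ)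
  have hmemγ : ρ γ ∈ (Subgroup.zpowers γ).map ρ := ⟨γ, Subgroup.mem_zpowers γ, rfl⟩
  have hd2 : ∀ x, dis γ' (dis γ' x) ∈ K := by
    intro x
    obtain ⟨n, hn⟩ := Subgroup.mem_zpowers_iff.1 (hline _ hmemγ (QuotientGroup.mk x))
    have h1 : (QuotientGroup.mk (dis γ' x) : H ⧸ K) = u ^ n := by
      rw [hn, dis_apply, div_eq_inv_mul]; rfl
    refine (QuotientGroup.eq_one_iff _).1 ?_
    rw [dis_apply, div_eq_inv_mul]
    show (QuotientGroup.mk (dis γ' x) : H ⧸ K)⁻¹ * ρ γ (QuotientGroup.mk (dis γ' x)) = 1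
    rw [h1, map_zpow, hfix _ hmemγ, inv_mul_cancel]
  have hγ1 : γ = 1 := eq_one_of_dis hH A hA fun x => by
    have hdK : ∀ y ∈ K, dis γ' y ∈ K := fun y hy => apply_mem_P (dis γ') hy
    have hpK : ∀ y ∈ K, y ^ p ∈ P p H 2 := fun y hy => by
      obtain ⟨w, rfl⟩ := mem_P.1 hy
      exact mem_P.2 ⟨w, by rw [pow_one, ← pow_mul, ← pow_two]⟩
    have h4 : dis γ' (dis γ' (dis γ' (dis γ' x))) ∈ P p H 2 := by
      obtain ⟨z, hz⟩ := mem_P.1 (hd2 x)
      obtain ⟨w, hw⟩ := mem_P.1 (hd2 z)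
      exact mem_P.2 ⟨w, by rw [← hz, map_pow, map_pow, ← hw, ← pow_mul, ← pow_add]⟩
    obtain ⟨m, hm, he⟩ := iterate_four γ' (M := P p H 2) (fun m hm => apply_mem_P γ'.toMonoidHom hm) h4 p
    have hp1 : γ' ^ p = 1 := by rw [hγ', ← SubgroupClass.coe_pow, ← hγ, pow_orderOf_eq_one]; rfl
    obtain ⟨c2, hc2⟩ := hpp.dvd_choose_self two_ne_zero (show 2 < p by omega)
    obtain ⟨c3, hc3⟩ := hpp.dvd_choose_self three_ne_zero (show 3 < p by omega)
    rw [hp1, MulAut.one_apply, hc2, hc3, mul_assoc x, mul_assoc x, mul_assoc x] at he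
    have hd1 := left_eq_mul.1 he
    have hmemP : dis γ' x ^ p ∈ P p H 2 := by
      have hrest : (dis γ' (dis γ' x)) ^ (p * c2) * (dis γ' (dis γ' (dis γ' x))) ^ (p * c3) * m ∈ P p H 2 :=
        mul_mem (mul_mem (by rw [pow_mul]; exact pow_mem (hpK _ (hd2 x)) _)
          (by rw [pow_mul]; exact pow_mem (hpK _ (hdK _ (hd2 x))) _)) hm
      have e1 : dis γ' x ^ p = ((dis γ' (dis γ' x)) ^ (p * c2) * (dis γ' (dis γ' (dis γ' x))) ^ (p * c3) * m)⁻¹ := by
        rw [eq_inv_iff_mul_eq_one, ← hd1]; ac_rfl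
      rw [e1]; exact inv_mem hrest
    obtain ⟨z, hz⟩ := mem_P.1 hmemP
    show dis γ' x ∈ K
    have h1 : dis γ' x / z ^ p ∈ K := hkey _ (by
      obtain ⟨e, rfl⟩ := Nat.exists_eq_add_of_le hk1
      rw [pow_add, pow_one, pow_mul, div_pow, ← pow_mul, ← pow_two, hz, div_self', one_pow])
    simpa using mul_mem h1 (hpow z)
  rw [hγ1, orderOf_one] at hγ
  exact hpp.one_lt.ne hγ

end CfsgLib.RankTwo
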